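import Groth.Agent.TorusAbTrivLib.Basic
import Groth.Agent.FixedSmooth.Props
import Groth.Agent.S7783

/-!
# Homomorphism sheaves between semi-abelian schemes
-/

set_option autoImplicit false
set_option backward.isDefEq.respectTransparency false
set_option linter.style.haveILetI false
set_option synthInstance.maxHeartbeats 400000
universe u

open CategoryTheory CategoryTheory.Limits MonoidalCategory CartesianMonoidalCategory MonObj AlgebraicGeometry Opposite

noncomputable section

namespace Groth.Agent.SemiAbHomLib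

variable {S : Scheme.{u}}

/-- The internal Hom of two sheaves of points vanishes if all homomorphisms after base change are trivial. -/
theorem isZero_homSh_of_forall (T A : Over S) [GrpObj T] [IsCommMonObj T] [GrpObj A] [IsCommMonObj A]
    (h : ∀ (X : Over S) (u : Red.bc X.hom T ⟶ Red.bc X.hom A), IsMonHom u → u = 1) :
    IsZero (HomSh.homSh (QuotSh.J Scheme.fppfPrecoverage S) (CGrpSh.pts Scheme.fppfPrecoverage T)
      (CGrpSh.pts Scheme.fppfPrecoverage A)) := by
  have key : ∀ (X : Over S) (φ : (CGrpSh.pts Scheme.fppfPrecoverage T).over X ⟶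
      (CGrpSh.pts Scheme.fppfPrecoverage A).over X), φ = 0 := by
    intro X φ
    let Wo : Over X.left ⥤ Over X :=
      { obj := fun V => Over.mk (Over.homMk V.hom rfl : (Over.map X.hom).obj V ⟶ X)
        map := fun k => Over.homMk ((Over.map X.hom).map k) (by ext; exact Over.w k) }
    let app : ∀ (V : Over X.left), ((Over.map X.hom).obj V ⟶ T) → ((Over.map X.hom).obj V ⟶ A) := fun V a =>
      BiAddRigidLib.un (φ.hom.app (op (Wo.obj V)) (BiAddRigidLib.pt T a))
    let Φ : ∀ (V : Over X.left), (V ⟶ Red.bc X.hom T) → (V ⟶ Red.bc X.hom A) := fun V a =>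
      FixedSmooth.adjEquiv X.hom A V (app V ((FixedSmooth.adjEquiv X.hom T V).symm a))
    have hmul : ∀ V a b, Φ V (a * b) = Φ V a * Φ V b := by
      intro V a b
      show FixedSmooth.adjEquiv X.hom A V _ = _
      rw [map_mul]
      exact (congrArg (FixedSmooth.adjEquiv X.hom A V) (congrArg BiAddRigidLib.un
        (map_add (φ.hom.app (op (Wo.obj V))).hom (BiAddRigidLib.pt T _) (BiAddRigidLib.pt T _)))).trans
          (map_mul (FixedSmooth.adjEquiv X.hom A V) _ _)
    have hnat : ∀ (V V' : Over X.left) (k : V' ⟶ V) a, Φ V' (k ≫ a) = k ≫ Φ V a := by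
      intro V V' k a
      have h1 : (FixedSmooth.adjEquiv X.hom T V').symm (k ≫ a) =
          (Over.map X.hom).map k ≫ (FixedSmooth.adjEquiv X.hom T V).symm a :=
        (Over.mapPullbackAdj X.hom).homEquiv_naturality_left_symm k a
      show FixedSmooth.adjEquiv X.hom A V' (app V' _) = _
      rw [h1]
      refine (congrArg (FixedSmooth.adjEquiv X.hom A V') (congrArg BiAddRigidLib.un
        (NatTrans.naturality_apply φ.hom (Wo.map k).op (BiAddRigidLib.pt T _)))).trans ?_
      exact (Over.mapPullbackAdj X.hom).homEquiv_naturality_left k _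
    let u := Φ (Red.bc X.hom T) (𝟙 _)
    have hu : ∀ V (a : V ⟶ Red.bc X.hom T), Φ V a = a ≫ u := fun V a => by
      rw [← hnat, Category.comp_id]
    haveI : IsMonHom u := WittHomLib.isMonHom_of_mul u fun V a b => by rw [← hu, ← hu, ← hu, hmul]
    have h0 : u = 1 := h X u inferInstance
    refine Sheaf.hom_ext (NatTrans.ext (funext fun W => AddCommGrpCat.ext fun b => BiAddRigidLib.eq_of_un ?_))
    let V : Over X.left := Over.mk W.unop.hom.left
    let e : W.unop ⟶ Wo.obj V := Over.homMk (Over.homMk (𝟙 W.unop.left.left) (by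
      show 𝟙 _ ≫ W.unop.hom.left ≫ X.hom = _
      rw [Category.id_comp]
      exact Over.w W.unop.hom)) (by ext; exact Category.id_comp _)
    let a : (Over.map X.hom).obj V ⟶ T := Over.homMk (BiAddRigidLib.un b).left (by
      show (BiAddRigidLib.un b).left ≫ T.hom = W.unop.hom.left ≫ X.hom
      exact (Over.w _).trans (Over.w W.unop.hom).symm)
    have hb : (CGrpSh.pts Scheme.fppfPrecoverage T).obj.map e.left.op (BiAddRigidLib.pt T a) = b :=
      BiAddRigidLib.eq_of_un (by ext; exact Category.id_comp _)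
    have ha : app V a = 1 := by
      have := hu V (FixedSmooth.adjEquiv X.hom T V a)
      rw [h0, MonObj.comp_one] at this
      simp only [Φ, MulEquiv.symm_apply_apply] at this
      exact (map_eq_one_iff _ (FixedSmooth.adjEquiv X.hom A V).injective).1 this
    rw [← hb]
    refine (congrArg BiAddRigidLib.un (NatTrans.naturality_apply φ.hom e.op (BiAddRigidLib.pt T a))).trans ?_
    show e.left ≫ app V a = 1
    rw [ha, MonObj.comp_one]
  refine (IsZero.iff_id_eq_zero _).2 (Sheaf.hom_ext (NatTrans.ext (funext fun X => AddCommGrpCat.ext fun φ => ?_)))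
  exact key X.unop φ

/-- Homomorphisms from abelian schemes to affine groups are trivial. -/
theorem hom_eq_one_of_isAffineHom {A T : Over S} [GrpObj A] [Smooth A.hom] [IsProper A.hom]
    [GeometricallyConnected A.hom] [GrpObj T] [IsAffineHom T.hom] [LocallyOfFinitePresentation T.hom]
    (f : A ⟶ T) [IsMonHom f] : f = 1 := by
  haveI : GeometricallyReduced A.hom := BiAddRigidLib.geometricallyReduced_of_smooth A.hom
  have main : ∀ s : S, ∃ W : S.Opens, s ∈ W ∧
      (A.hom ⁻¹ᵁ W).ι ≫ f.left = (A.hom ⁻¹ᵁ W).ι ≫ (1 : A ⟶ T).left := by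
    intro s
    let j := S.fromSpecResidueField s
    have hsub : (f.left '' (A.hom ⁻¹' {s})).Subsingleton := by
      haveI : Smooth (Red.bc j A).hom := inferInstanceAs (Smooth (pullback.snd _ _))
      haveI : IsProper (Red.bc j A).hom := inferInstanceAs (IsProper (pullback.snd _ _))
      haveI : GeometricallyConnected (Red.bc j A).hom := inferInstanceAs (GeometricallyConnected (pullback.snd _ _))
      haveI : IsAffineHom (Red.bc j T).hom := inferInstanceAs (IsAffineHom (pullback.snd _ _))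
      haveI : GeometricallyIntegral (Red.bc j A).hom :=
        AVLib.geometricallyIntegral_of_smooth (K := S.residueField s) (Red.bc j A)
      haveI : Subsingleton ↥(Spec (S.residueField s)) := inferInstanceAs (Subsingleton (PrimeSpectrum _))
      haveI : IsIntegral (Red.bc j A).left := GeometricallyIntegral.isIntegral_of_subsingleton (Red.bc j A).hom
      haveI : IsAffine (Red.bc j T).left := isAffine_of_isAffineHom (Red.bc j T).hom
      let h := ((Over.pullback j).map f).left
      have hfld := isField_of_universallyClosed (S.residueField s) (Red.bc j A).hom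
      letI := hfld.toField
      haveI : Subsingleton ↥(Spec Γ((Red.bc j A).left, ⊤)) := inferInstanceAs (Subsingleton (PrimeSpectrum _))
      have hconst : ∀ x y, h x = h y := fun x y => by
        apply (Scheme.isoSpec (Red.bc j T).left).hom.homeomorph.injective
        show (h ≫ (Scheme.isoSpec (Red.bc j T).left).hom) x = (h ≫ (Scheme.isoSpec (Red.bc j T).left).hom) y
        rw [Scheme.isoSpec_hom, Scheme.toSpecΓ_naturality, Scheme.Hom.comp_apply, Scheme.Hom.comp_apply,
          Subsingleton.elim ((Red.bc j A).left.toSpecΓ x) ((Red.bc j A).left.toSpecΓ y)]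
      rintro _ ⟨x, hx, rfl⟩ _ ⟨y, hy, rfl⟩
      obtain ⟨x', rfl⟩ : x ∈ Set.range (A.hom.fiberι s) := by rw [Scheme.Hom.range_fiberι]; exact hx
      obtain ⟨y', rfl⟩ : y ∈ Set.range (A.hom.fiberι s) := by rw [Scheme.Hom.range_fiberι]; exact hy
      have hh : h ≫ pullback.fst T.hom j = A.hom.fiberι s ≫ f.left := pullback.lift_fst _ _ _
      rw [← Scheme.Hom.comp_apply, ← Scheme.Hom.comp_apply, ← hh, Scheme.Hom.comp_apply, Scheme.Hom.comp_apply]
      exact congrArg _ (hconst x' y')
    have hf : f.left ≫ T.hom = A.hom ≫ 𝟙 S := (Over.w f).trans (Category.comp_id _).symm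
    obtain ⟨W, -, hsW, k, hk⟩ := S7783.result (𝟙 S) T.hom A.hom f.left hf s hsub
    refine ⟨W, hsW, ?_⟩
    have he : η[A].left ≫ A.hom = 𝟙 S := Over.w η[A]
    have hr : Set.range (W.ι ≫ η[A].left).base ⊆ Set.range (A.hom ⁻¹ᵁ W).ι.base := by
      rintro _ ⟨w, rfl⟩
      rw [Scheme.Opens.range_ι]
      show (W.ι ≫ η[A].left ≫ A.hom) w ∈ (W : Set S)
      rw [he, Category.comp_id]
      exact w.2
    let r : (W : Scheme.{u}) ⟶ (A.hom ⁻¹ᵁ W : Scheme.{u}) := IsOpenImmersion.lift (A.hom ⁻¹ᵁ W).ι (W.ι ≫ η[A].left) hr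
    have hr' : r ≫ (A.hom ⁻¹ᵁ W).ι = W.ι ≫ η[A].left := IsOpenImmersion.lift_fac _ _ _
    have hrg : r ≫ (A.hom ∣_ W) = 𝟙 _ := by
      rw [← cancel_mono W.ι, Category.assoc, morphismRestrict_ι, reassoc_of% hr', he, Category.comp_id,
        Category.id_comp]
    have hk' : k = W.ι ≫ η[T].left := by
      have := congrArg (r ≫ ·) hk
      simp only [reassoc_of% hr', reassoc_of% hrg] at this
      rw [← this, ← IsMonHom.one_hom (f := f)]
      rfl
    rw [hk, hk', morphismRestrict_ι_assoc]
    rfl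
  choose W hW hWeq using main
  refine Over.OverMorphism.ext ?_
  have hcov : TopologicalSpace.IsOpenCover fun s : S => A.hom ⁻¹ᵁ W s := by
    rw [TopologicalSpace.IsOpenCover, eq_top_iff]
    exact fun x _ => TopologicalSpace.Opens.mem_iSup.2 ⟨A.hom x, hW (A.hom x)⟩
  exact Scheme.Cover.hom_ext (A.left.openCoverOfIsOpenCover _ hcov) _ _ hWeq

/-- The internal Hom from an abelian scheme to a torus vanishes. -/
theorem isZero_homSh_abelian_torus {A T : Over S} [GrpObj A] [IsCommMonObj A] [Smooth A.hom] [IsProper A.hom]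
    (hA : ∀ s : S, ConnectedSpace ↥(A.hom.fiber s)) [GrpObj T] [IsCommMonObj T] (hT : Red.IsTorus T) :
    IsZero (HomSh.homSh (QuotSh.J Scheme.fppfPrecoverage S) (CGrpSh.pts Scheme.fppfPrecoverage A)
      (CGrpSh.pts Scheme.fppfPrecoverage T)) := by
  haveI : GeometricallyConnected A.hom :=
    MonoFibre.geometricallyConnected_of_connected_fibres A.hom η[A].left (Over.w η[A]) hA
  have hFT := SplitHom.isMultTypeFT_of_isTorus hT
  haveI : IsAffineHom T.hom :=
    FixedSmooth.isAffineHom_of_isMultTypeLoc (WeilClosedLib.IsMultTypeLoc.of_isMultTypeFT hFT)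
  haveI : LocallyOfFinitePresentation T.hom := FixedSmooth.locallyOfFinitePresentation_of_isMultTypeFT hFT
  refine isZero_homSh_of_forall A T fun X u _ => ?_
  haveI : Smooth (Red.bc X.hom A).hom := inferInstanceAs (Smooth (pullback.snd _ _))
  haveI : IsProper (Red.bc X.hom A).hom := inferInstanceAs (IsProper (pullback.snd _ _))
  haveI : GeometricallyConnected (Red.bc X.hom A).hom := inferInstanceAs (GeometricallyConnected (pullback.snd _ _))
  haveI : IsAffineHom (Red.bc X.hom T).hom := MorphismProperty.pullback_snd (P := @IsAffineHom) _ _ inferInstance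
  haveI : LocallyOfFinitePresentation (Red.bc X.hom T).hom :=
    inferInstanceAs (LocallyOfFinitePresentation (pullback.snd _ _))
  exact hom_eq_one_of_isAffineHom u

section Comparison

variable {C : Type (u + 1)} [Category.{u} C] {J : GrothendieckTopology C}

theorem eq_zero_of_isZero {F G : Sheaf J AddCommGrpCat.{u + 1}} (h : IsZero (HomSh.homSh J F G)) {X : C}
    (φ : F.over X ⟶ G.over X) : φ = 0 :=
  congr(($((IsZero.iff_id_eq_zero _).1 h)).hom.app (op X) φ)

theorem mono_of_injective {F G : Sheaf J AddCommGrpCat.{u + 1}} (a : F ⟶ G)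
    (h : ∀ X : C, Function.Injective (a.hom.app (op X))) : Mono a := by
  haveI : ∀ U, Mono (a.hom.app U) := fun U => (AddCommGrpCat.mono_iff_injective _).2 (h U.unop)
  haveI : Mono ((sheafToPresheaf J AddCommGrpCat.{u + 1}).map a) := NatTrans.mono_of_mono_app a.hom
  exact (sheafToPresheaf J AddCommGrpCat.{u + 1}).mono_of_mono_map ‹_›

theorem isIso_of_bijective {F G : Sheaf J AddCommGrpCat.{u + 1}} (a : F ⟶ G)
    (h : ∀ X : C, Function.Bijective (a.hom.app (op X))) : IsIso a := by
  haveI : ∀ U, IsIso (a.hom.app U) := fun U => (ConcreteCategory.isIso_iff_bijective _).2 (h U.unop)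
  haveI : IsIso ((sheafToPresheaf J AddCommGrpCat.{u + 1}).map a) := NatIso.isIso_of_isIso_app a.hom
  exact isIso_of_reflects_iso a (sheafToPresheaf J AddCommGrpCat.{u + 1})

end Comparison

set_option maxHeartbeats 1600000 in
theorem main (T₁ G₁ A₁ T₂ G₂ A₂ : Over S)
    [GrpObj T₁] [IsCommMonObj T₁] (hT₁ : Red.IsTorus T₁) [GrpObj G₁] [IsCommMonObj G₁]
    [GrpObj A₁] [IsCommMonObj A₁] [Smooth A₁.hom] [IsProper A₁.hom]
    (hA₁ : ∀ s : S, ConnectedSpace ↥(A₁.hom.fiber s))
    [GrpObj T₂] [IsCommMonObj T₂] (hT₂ : Red.IsTorus T₂) [GrpObj G₂] [IsCommMonObj G₂]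
    [GrpObj A₂] [IsCommMonObj A₂] [Smooth A₂.hom] [IsProper A₂.hom]
    (hA₂ : ∀ s : S, ConnectedSpace ↥(A₂.hom.fiber s))
    (ι₁ : T₁ ⟶ G₁) (π₁ : G₁ ⟶ A₁) [IsMonHom ι₁] [IsMonHom π₁] (w₁ : ι₁ ≫ π₁ = 1)
    (hex₁ : (CGrpSh.seq Scheme.fppfPrecoverage ι₁ π₁ w₁).ShortExact)
    (ι₂ : T₂ ⟶ G₂) (π₂ : G₂ ⟶ A₂) [IsMonHom ι₂] [IsMonHom π₂] (w₂ : ι₂ ≫ π₂ = 1)
    (hex₂ : (CGrpSh.seq Scheme.fppfPrecoverage ι₂ π₂ w₂).ShortExact) :
    IsIso (HomSh.homShMap (QuotSh.J Scheme.fppfPrecoverage S) (CGrpSh.ptsMap Scheme.fppfPrecoverage π₁) (𝟙 (CGrpSh.pts Scheme.fppfPrecoverage A₂))) ∧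
    IsIso (HomSh.homShMap (QuotSh.J Scheme.fppfPrecoverage S) (𝟙 (CGrpSh.pts Scheme.fppfPrecoverage T₁)) (CGrpSh.ptsMap Scheme.fppfPrecoverage ι₂)) ∧
    Mono (HomSh.homShMap (QuotSh.J Scheme.fppfPrecoverage S) (CGrpSh.ptsMap Scheme.fppfPrecoverage ι₁) (𝟙 (CGrpSh.pts Scheme.fppfPrecoverage T₂))) ∧
    Mono (HomSh.homShMap (QuotSh.J Scheme.fppfPrecoverage S) (𝟙 (CGrpSh.pts Scheme.fppfPrecoverage A₁)) (CGrpSh.ptsMap Scheme.fppfPrecoverage π₂)) := by
  let J := QuotSh.J Scheme.fppfPrecoverage S
  have z₁ := TorusAbTrivLib.isZero_homSh (T := T₁) (A := A₂) hT₁ hA₂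
  have z₂ := isZero_homSh_abelian_torus (A := A₁) (T := T₂) hA₁ hT₂
  have hres : ∀ (X : Over S) (Sq : ShortComplex (BigSite.Ab Scheme.fppfPrecoverage S)), Sq.ShortExact →
      (Sq.map (J.overPullback AddCommGrpCat.{u + 1} X)).ShortExact := fun X Sq h => by
    haveI : (J.overPullback AddCommGrpCat.{u + 1} X).IsLeftAdjoint :=
      ((Over.forget X).sheafAdjunctionCocontinuous AddCommGrpCat.{u + 1} (J.over X) J).isLeftAdjoint
    exact h.map_of_exact _
  refine ⟨isIso_of_bijective _ fun X => ?_, isIso_of_bijective _ fun X => ?_, mono_of_injective _ fun X => ?_,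
    mono_of_injective _ fun X => ?_⟩
  · have h := hres X _ hex₁
    haveI : Epi ((J.overPullback _ X).map (CGrpSh.ptsMap Scheme.fppfPrecoverage π₁)) := h.epi_g
    refine ⟨fun φ φ' e => ?_, fun ψ => ?_⟩
    · simp only [HomSh.homShMap_app_apply, CategoryTheory.Functor.map_id, Category.comp_id] at e
      exact (cancel_epi ((J.overPullback _ X).map (CGrpSh.ptsMap Scheme.fppfPrecoverage π₁))).1 e
    · obtain ⟨l, hl⟩ := CokernelCofork.IsColimit.desc' h.gIsCokernel ψ (eq_zero_of_isZero z₁ _)
      refine ⟨l, ?_⟩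
      simp only [HomSh.homShMap_app_apply, CategoryTheory.Functor.map_id, Category.comp_id]
      exact hl
  · have h := hres X _ hex₂
    haveI : Mono ((J.overPullback _ X).map (CGrpSh.ptsMap Scheme.fppfPrecoverage ι₂)) := h.mono_f
    refine ⟨fun φ φ' e => ?_, fun ψ => ?_⟩
    · simp only [HomSh.homShMap_app_apply, CategoryTheory.Functor.map_id, Category.id_comp] at e
      exact (cancel_mono ((J.overPullback _ X).map (CGrpSh.ptsMap Scheme.fppfPrecoverage ι₂))).1 e
    · obtain ⟨l, hl⟩ := KernelFork.IsLimit.lift' h.fIsKernel ψ (eq_zero_of_isZero z₁ _)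
      refine ⟨l, ?_⟩
      simp only [HomSh.homShMap_app_apply, CategoryTheory.Functor.map_id, Category.id_comp]
      exact hl
  · have h := hres X _ hex₁
    haveI : Epi ((J.overPullback _ X).map (CGrpSh.ptsMap Scheme.fppfPrecoverage π₁)) := h.epi_g
    refine (injective_iff_map_eq_zero _).2 fun φ e => ?_
    simp only [HomSh.homShMap_app_apply, CategoryTheory.Functor.map_id, Category.comp_id] at e
    obtain ⟨l, hl⟩ := CokernelCofork.IsColimit.desc' h.gIsCokernel φ e
    exact (hl.symm.trans (congrArg (_ ≫ ·) (eq_zero_of_isZero z₂ l))).trans comp_zero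
  · have h := hres X _ hex₂
    haveI : Mono ((J.overPullback _ X).map (CGrpSh.ptsMap Scheme.fppfPrecoverage ι₂)) := h.mono_f
    refine (injective_iff_map_eq_zero _).2 fun φ e => ?_
    simp only [HomSh.homShMap_app_apply, CategoryTheory.Functor.map_id, Category.id_comp] at e
    obtain ⟨l, hl⟩ := KernelFork.IsLimit.lift' h.fIsKernel φ e
    exact (hl.symm.trans (congrArg (· ≫ _) (eq_zero_of_isZero z₂ l))).trans zero_comp

end Groth.Agent.SemiAbHomLib
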